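import Groth.Prelude.Def_Wider
import Groth.Agent.L29.DCoh.PushTilde
import Groth.Agent.L29.DCoh.Gen.Supp
import Groth.Agent.L29.DCoh.Gen.ZOn
import Groth.Agent.L10.GammaZ.Orth
import Groth.Agent.L18.TildeFunctor
import Groth.Agent.S9265

/-!
The extended Čech complex computes sections with support on an affine scheme.
-/

set_option autoImplicit false
set_option linter.style.haveILetI false
set_option backward.defeqAttrib.useBackward true
set_option backward.isDefEq.respectTransparency false
set_option backward.isDefEq.respectTransparency.types false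

universe u

open CategoryTheory CategoryTheory.Limits CategoryTheory.Pretriangulated AlgebraicGeometry CochainComplex

attribute [local instance] HasDerivedCategory.standard

noncomputable section

namespace Groth.Lead.CechGamma

open Groth.L29.DC

variable {A : Type u} [CommRing A]

theorem distinguished_cocone {C : Type*} [Category C] [Abelian C] [HasDerivedCategory C] {K L : CochainComplex C ℤ}
    (φ : K ⟶ L) : DerivedCategory.Q.mapTriangle.obj (mappingCocone.triangle φ) ∈ distTriang (DerivedCategory C) := by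
  rw [rotate_distinguished_triangle]
  refine isomorphic_distinguished _ ((DerivedCategory.mem_distTriang_iff _).2 ⟨_, _, φ, ⟨Iso.refl _⟩⟩) _ ?_
  exact (Functor.mapTriangleRotateIso DerivedCategory.Q).app _ ≪≫
    DerivedCategory.Q.mapTriangle.mapIso (mappingCocone.rotateTriangleIso φ)

variable (f : A)

local notation "Af" => Localization.Away f

/-- localisation with values in modules over the localised ring -/
def locUp : ModuleCat.{u} A ⥤ ModuleCat.{u} Af where
  obj M := ModuleCat.of Af (LocalizedModule (Submonoid.powers f) M)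
  map {M N} g := ModuleCat.ofHom ((show LocalizedModule (Submonoid.powers f) M →ₗ[A]
      LocalizedModule (Submonoid.powers f) N from
    ((DerCA.locFunctor (Submonoid.powers f)).map g).hom).extendScalarsOfIsLocalization (Submonoid.powers f) Af)
  map_id M := ModuleCat.hom_ext (LinearMap.ext fun x => by
    change ((DerCA.locFunctor (Submonoid.powers f)).map (𝟙 M)).hom x = x
    rw [CategoryTheory.Functor.map_id]
    rfl)
  map_comp {M N P} g h := ModuleCat.hom_ext (LinearMap.ext fun x => by
    change ((DerCA.locFunctor (Submonoid.powers f)).map (g ≫ h)).hom x = _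
    rw [Functor.map_comp]
    rfl)

instance : (locUp f).Additive where
  map_add {M N g g'} := ModuleCat.hom_ext (LinearMap.ext fun x => by
    change ((DerCA.locFunctor (Submonoid.powers f)).map (g + g')).hom x =
      ((DerCA.locFunctor (Submonoid.powers f)).map g).hom x + ((DerCA.locFunctor (Submonoid.powers f)).map g').hom x
    rw [Functor.map_add]
    rfl)

/-- the localisation map of rings -/
def φf : CommRingCat.of A ⟶ CommRingCat.of Af := CommRingCat.ofHom (algebraMap A Af)

def locUpIso : locUp f ⋙ ModuleCat.restrictScalars.{u} (φf f).hom ≅ DerCA.locFunctor (Submonoid.powers f) :=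
  NatIso.ofComponents (fun M => LinearEquiv.toModuleIso
    (X₁ := ((ModuleCat.restrictScalars.{u} (φf f).hom).obj ((locUp f).obj M) : ModuleCat.{u} A))
    { toFun := fun x => x
      invFun := fun x => x
      map_add' := fun _ _ => rfl
      map_smul' := fun a (x : LocalizedModule (Submonoid.powers f) M) => (algebraMap_smul Af a x : _) })
    fun g => ModuleCat.hom_ext (LinearMap.ext fun x => rfl)

instance : IsOpenImmersion (Spec.map (φf f)) := IsOpenImmersion.of_isLocalization f

theorem range_φf : Set.range (Spec.map (φf f)) = (PrimeSpectrum.basicOpen f : Set (PrimeSpectrum A)) :=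
  PrimeSpectrum.localization_away_comap_range Af f

variable {U : (Spec (CommRingCat.of A)).Opens}

/-- localised complexes receive no maps from objects vanishing on the open -/
theorem hom_loc_eq_zero (hf : (PrimeSpectrum.basicOpen f : Set (PrimeSpectrum A)) ⊆ (U : Set (Spec (CommRingCat.of A)))) (C : DRing.Cx A)
    [PreservesFiniteLimits (tilde.functor (CommRingCat.of A))]
    {P : DCoh.D (Spec (CommRingCat.of A))} (hP : IsZero ((DCoh.restrictD U.ι).obj P)) (n : ℤ)
    (ψ : P ⟶ ((DCoh.tildeD (CommRingCat.of A)).obj (DRing.toD ((DerCA.locCx (Submonoid.powers f)).obj C)))⟦n⟧) :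
    ψ = 0 := by
  let g := Spec.map (φf f)
  haveI := RpushQC.hasRpush g
  haveI : PreservesFiniteLimits (tilde.functor (CommRingCat.of Af)) := Groth.L18.TildeF.tilde_preservesFiniteLimits
  obtain ⟨e⟩ := PushTilde.nonempty_tildeD_Rpush (φf f)
  let M := ModuleCat.restrictScalars.{u} (φf f).hom
  let C' := ((locUp f).mapHomologicalComplex (ComplexShape.up ℤ)).obj C
  let c : (M.mapHomologicalComplex (ComplexShape.up ℤ)).obj C' ≅ (DerCA.locCx (Submonoid.powers f)).obj C :=
    HomologicalComplex.Hom.isoOfComponents (fun i => (locUpIso f).app (C.X i))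
      fun i j _ => ((locUpIso f).hom.naturality (C.d i j)).symm
  let W := (DCoh.tildeD (CommRingCat.of Af)).obj (DRing.toD C')
  let eW : (DCoh.Rpush g).obj W ≅ (DCoh.tildeD (CommRingCat.of A)).obj (DRing.toD ((DerCA.locCx (Submonoid.powers f)).obj C)) :=
    e.app _ ≪≫ (DCoh.tildeD (CommRingCat.of A)).mapIso
      (M.mapDerivedCategoryFactors.app C' ≪≫ DerivedCategory.Q.mapIso c)
  have hg : IsZero ((DCoh.restrictD g).obj P) := by
    rw [Gen.isZero_restrictD_iff] at hP ⊢
    intro i
    refine (hP i).trans (Set.compl_subset_compl.2 ?_)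
    rw [Scheme.Opens.range_ι]
    exact (range_φf f).le.trans hf
  have hgn : IsZero ((DCoh.restrictD g).obj (P⟦-n⟧)) :=
    ((CategoryTheory.shiftFunctor _ (-n)).map_isZero hg).of_iso (((DCoh.restrictD g).commShiftIso (-n)).app P)
  have h0 : ψ⟦-n⟧' ≫ (shiftFunctorCompIsoId (DCoh.D (Spec (CommRingCat.of A))) n (-n) (add_neg_cancel n)).hom.app _ ≫
      eW.inv = 0 := Groth.L10.GammaZ.hom_push_eq_zero g hgn _
  refine (CategoryTheory.shiftFunctor _ (-n)).map_injective (Eq.trans ?_ (Functor.map_zero _ _ _).symm)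
  rw [← cancel_mono ((shiftFunctorCompIsoId (DCoh.D (Spec (CommRingCat.of A))) n (-n) (add_neg_cancel n)).hom.app _ ≫
    eW.inv), zero_comp]
  exact h0

variable [PreservesFiniteLimits (tilde.functor (CommRingCat.of A))]

/-- the augmentation of the extended Čech complex is a coreflection -/
theorem exists_aug (M : ModuleCat.{u} A) : ∀ (fs : List A),
    (∀ g ∈ fs, (PrimeSpectrum.basicOpen g : Set (PrimeSpectrum A)) ⊆ (U : Set (Spec (CommRingCat.of A)))) →
    ∃ a : (DCoh.tildeD (CommRingCat.of A)).obj (DRing.toD (DerCA.extCech M fs)) ⟶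
        (DCoh.tildeD (CommRingCat.of A)).obj (Dual.inD A M),
      ∀ P : DCoh.D (Spec (CommRingCat.of A)), IsZero ((DCoh.restrictD U.ι).obj P) →
        Function.Bijective fun φ : P ⟶ _ => φ ≫ a
  | [], _ => by
    let e : DRing.toD (DerCA.extCech M []) ≅ Dual.inD A M :=
      ((SingleFunctors.evaluation _ _ 0).mapIso
        (DerivedCategory.singleFunctorsPostcompQIso (ModuleCat.{u} A))).symm.app M
    refine ⟨(DCoh.tildeD (CommRingCat.of A)).map e.hom, fun P _ => ⟨fun x y h => (cancel_mono _).1 h,
      fun y => ⟨y ≫ (DCoh.tildeD (CommRingCat.of A)).map e.inv, ?_⟩⟩⟩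
    simp [← Functor.map_comp]
  | g :: gs, h => by
    obtain ⟨a, ha⟩ := exists_aug M gs fun x hx => h x (List.mem_cons_of_mem _ hx)
    let T := (DCoh.tildeD (CommRingCat.of A)).mapTriangle.obj (DerivedCategory.Q.mapTriangle.obj
      (mappingCocone.triangle (DerCA.locCxUnit (Submonoid.powers g) (DerCA.extCech M gs))))
    have hT : T ∈ distTriang _ := (DCoh.tildeD (CommRingCat.of A)).map_distinguished _ (distinguished_cocone _)
    refine ⟨T.mor₁ ≫ a, fun P hP => ?_⟩
    have hb : Function.Bijective fun φ : P ⟶ T.obj₁ => φ ≫ T.mor₁ := by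
      refine ⟨fun x y hxy => sub_eq_zero.1 ?_, fun z => ?_⟩
      · obtain ⟨γ, hγ⟩ := Triangle.coyoneda_exact₂ _ (inv_rot_of_distTriang _ hT) (x - y) (by
          change (x - y) ≫ T.mor₁ = 0
          rw [Preadditive.sub_comp, sub_eq_zero]
          exact hxy)
        rw [hγ]
        exact (congrArg (fun t => t ≫ _)
          (hom_loc_eq_zero g (h g List.mem_cons_self) _ hP (-1) γ)).trans zero_comp
      · have hz : z ≫ T.mor₂ = 0 := by
          have h0 := hom_loc_eq_zero g (h g List.mem_cons_self) _ hP 0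
            ((z ≫ T.mor₂) ≫ (shiftFunctorZero (DCoh.D (Spec (CommRingCat.of A))) ℤ).inv.app _)
          rwa [← cancel_mono ((shiftFunctorZero (DCoh.D (Spec (CommRingCat.of A))) ℤ).inv.app T.obj₃), zero_comp]
        obtain ⟨x, hx⟩ := Triangle.coyoneda_exact₂ _ hT z hz
        exact ⟨x, hx.symm⟩
    have := (ha P hP).comp hb
    simp only [Function.comp_def, Category.assoc] at this
    exact this

theorem isZero_restrict_cech (M : ModuleCat.{u} A) (fs : List A)
    (hU : ∀ x ∈ U, ∃ g ∈ fs, g ∉ (x : PrimeSpectrum A).asIdeal) :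
    IsZero ((DCoh.restrictD U.ι).obj ((DCoh.tildeD (CommRingCat.of A)).obj (DRing.toD (DerCA.extCech M fs)))) := by
  refine (Gen.isZero_res_iff U _).2 fun i x hx => ?_
  refine IsZero.of_iso ?_ ((Groth.L00.Stk.F _ x).mapIso (TildeAlg.hdIso (R := CommRingCat.of A) _ i))
  refine (Gen.isZero_stalk_tilde_iff x _).2 fun m => ?_
  obtain ⟨g, hg, hgx⟩ := hU x hx
  let e := (DerivedCategory.homologyFunctorFactors (ModuleCat.{u} A) i).app (DerCA.extCech M fs)
  obtain ⟨n, -, hn⟩ := Groth.Agent.S9265.result A fs M i (e.hom m)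
  refine ⟨g ^ n, fun hmem => hgx (x.isPrime.mem_of_pow_mem n hmem), ?_⟩
  apply e.toLinearEquiv.injective
  rw [map_zero, map_smul]
  exact hn g hg

theorem nonempty_iso (fs : List A) (M : ModuleCat.{u} A)
    [CxOX.HasRgammaZ (LocCoh.puncturedOpen A (Ideal.span {a | a ∈ fs})).ι] :
    Nonempty ((DCoh.tildeD (CommRingCat.of A)).obj (DRing.toD (DerCA.extCech M fs)) ≅
      (CxOX.RgammaZ (LocCoh.puncturedOpen A (Ideal.span {a | a ∈ fs})).ι).obj
        ((DCoh.tildeD (CommRingCat.of A)).obj (Dual.inD A M))) := by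
  let U := LocCoh.puncturedOpen A (Ideal.span {a | a ∈ fs})
  haveI := Gen.hasRpush' U.ι
  have h1 : ∀ g ∈ fs, (PrimeSpectrum.basicOpen g : Set (PrimeSpectrum A)) ⊆ (U : Set (Spec (CommRingCat.of A))) := fun g hg x hx hxz =>
    hx (hxz (Ideal.subset_span hg))
  have h2 : ∀ x ∈ U, ∃ g ∈ fs, g ∉ (x : PrimeSpectrum A).asIdeal := by
    intro x hx
    by_contra hne
    push Not at hne
    exact hx (Ideal.span_le.2 fun g hg => hne g hg)
  obtain ⟨a, ha⟩ := exists_aug (U := U) M fs h1
  have hP := isZero_restrict_cech (U := U) M fs h2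
  obtain ⟨α, hα⟩ := (Groth.L10.GammaZ.bijective U.ι hP ((DCoh.tildeD (CommRingCat.of A)).obj (Dual.inD A M))).2 a
  haveI := Groth.L10.GammaZ.isIso_of_bijective U.ι a _ α hα hP (Groth.L10.GammaZ.isZero_restrict U.ι _)
    (fun hQ => ha _ hQ) (fun hQ => Groth.L10.GammaZ.bijective U.ι hQ _)
  exact ⟨asIso α⟩

end Groth.Lead.CechGamma
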